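import Cfsg.Agent.Lib.Fi22Three.Action
import Cfsg.Agent.Lib.Fischer.OrthThreeClass

/-!
The reflection group in dimension six over three elements as a group with the action on 126 reflections.
-/

set_option autoImplicit false
set_option maxRecDepth 100000

namespace CfsgLib.Fi22Three

open Cfsg CfsgLib.CosetEnum CfsgLib.Orth

/-- the form -/
def Qsix : QuadraticForm (ZMod 3) (Fin 6 → ZMod 3) :=
  QuadraticMap.weightedSumSquares (ZMod 3) (1 : Fin 6 → ZMod 3)

theorem Qsix_apply (v : Fin 6 → ZMod 3) : Qsix v = ∑ i, v i * v i := by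
  rw [Qsix, QuadraticMap.weightedSumSquares_apply]
  exact Finset.sum_congr rfl fun i _ => one_smul _ _

theorem Qsix_polar (v w : Fin 6 → ZMod 3) : QuadraticMap.polar ⇑Qsix v w = 2 * ∑ i, v i * w i := by
  simp only [QuadraticMap.polar, Qsix_apply, Pi.add_apply, Finset.mul_sum, ← Finset.sum_sub_distrib]
  exact Finset.sum_congr rfl fun i _ => by ring

theorem Qsix_nondeg : (QuadraticMap.polarBilin Qsix).Nondegenerate := by
  have h : ∀ x : Fin 6 → ZMod 3, (∀ y, QuadraticMap.polar ⇑Qsix x y = 0) → x = 0 := fun x hx => funext fun i => by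
    have e := hx (Pi.single i 1)
    rw [Qsix_polar, Finset.sum_eq_single i (fun j _ hj => by rw [Pi.single_eq_of_ne hj, mul_zero])
      (fun hi => absurd (Finset.mem_univ i) hi), Pi.single_eq_same, mul_one, mul_eq_zero] at e
    exact e.resolve_left (by decide +kernel)
  exact ⟨fun x hx => h x hx, fun x hx => h x fun y => by rw [QuadraticMap.polar_comm]; exact hx y⟩

theorem Qsix_det : polarGramDet ⇑Qsix = 1 := by
  have e : (Matrix.of fun i j : Fin 6 => QuadraticMap.polar ⇑Qsix (Pi.single i 1) (Pi.single j 1)) =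
      Matrix.diagonal fun _ => (2 : ZMod 3) := by
    ext i j
    rw [Matrix.of_apply, Qsix_polar, Finset.sum_eq_single i (fun k _ hk => by rw [Pi.single_eq_of_ne hk, zero_mul])
      (fun hi => absurd (Finset.mem_univ i) hi), Pi.single_eq_same, one_mul, Matrix.diagonal_apply]
    by_cases h : i = j
    · rw [h, Pi.single_eq_same, if_pos rfl, mul_one]
    · rw [Pi.single_eq_of_ne h, if_neg h, mul_zero]
  rw [polarGramDet, e, Matrix.det_diagonal]
  decide +kernel

/-- the vector of a point -/
noncomputable def vecOf (i : ℕ) : Fin 6 → ZMod 3 := fun k => ((nth pairVecs i 0 / 3 ^ (k : ℕ) % 3 : ℕ) : ZMod 3)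

/-- the first coordinates as a number -/
def code (a b c d e f : ZMod 3) : ℕ := a.val + 3 * b.val + 9 * c.val + 27 * d.val + 81 * e.val + 243 * f.val

theorem vec_norm : ∀ i : Fin 126, ∑ k, vecOf i k * vecOf i k = 1 := by decide +kernel

theorem vec_cover : ∀ a b c d e f : ZMod 3, a * a + b * b + c * c + d * d + e * e + f * f = 1 →
    (pairVecs.any fun n => Nat.beq n (code a b c d e f) || Nat.beq n (code (-a) (-b) (-c) (-d) (-e) (-f))) = true := by
  decide +kernel

/-- the point of a generator -/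
noncomputable def selPt (a : Fin 7) : Fin 126 := ⟨nth pairGens a 0 % 126, Nat.mod_lt _ (by norm_num)⟩

/-- the reflection of a generator moves a vector as the generator its point -/
noncomputable def reflMatch (a : Fin 7) (j : Fin 126) : Bool :=
  let u := fun k => vecOf j k + (∑ l, vecOf (selPt a) l * vecOf j l) * vecOf (selPt a) k
  decide (∀ k, u k = vecOf (piPerm a j) k) || decide (∀ k, u k = -vecOf (piPerm a j) k)

theorem refl_match : ∀ a : Fin 7, ∀ j : Fin 126, reflMatch a j = true := by decide +kernel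

theorem vec_sep : ((List.range 126).all fun i => (List.range 126).all fun j => Nat.beq i j ||
    !(decide (∀ k, vecOf i k = vecOf j k) || decide (∀ k, vecOf i k = -vecOf j k))) = true := by decide +kernel

theorem nondeg' : Nondeg Qsix := fun x hx => Qsix_nondeg.1 x hx

theorem Qsix_vec (i : Fin 126) : Qsix (vecOf i) = 1 := (Qsix_apply _).trans (vec_norm i)

theorem exists_reflection (i : Fin 126) : ∃ g : Grp Qsix, IsRefl (vecOf i) g :=
  exists_refl nondeg' (by rw [Qsix_vec]; decide +kernel)

/-- the reflection of a point -/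
noncomputable def reflOf (i : Fin 126) : Grp Qsix := (exists_reflection i).choose

theorem reflOf_spec (i : Fin 126) : IsRefl (vecOf i) (reflOf i) := (exists_reflection i).choose_spec

theorem reflOf_mem (i : Fin 126) : reflOf i ∈ reflectionSubgroup (⇑Qsix) 1 :=
  Subgroup.subset_closure ((CfsgLib.Fischer.norm_one_iff one_ne_zero _).2 ⟨_, Qsix_vec i, reflOf_spec i⟩)

theorem vec_of_mem {n : ℕ} (h : n ∈ pairVecs) : ∃ i : Fin 126, nth pairVecs i 0 = n := by
  obtain ⟨j, hj, rfl⟩ := List.mem_iff_getElem.1 h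
  have hl : pairVecs.length = 126 := by decide +kernel
  exact ⟨⟨j, hl ▸ hj⟩, by rw [nth_eq, List.getD_eq_getElem _ _ hj]⟩

theorem exists_point {v : Fin 6 → ZMod 3} (hv : Qsix v = 1) :
    ∃ i : Fin 126, v = vecOf i ∨ v = -vecOf i := by
  have dec : ∀ a b c d e f : ZMod 3, ∀ k : Fin 6,
      ((code a b c d e f / 3 ^ (k : ℕ) % 3 : ℕ) : ZMod 3) = ![a, b, c, d, e, f] k := by decide +kernel
  have h := vec_cover (v 0) (v 1) (v 2) (v 3) (v 4) (v 5) (by
    rw [← hv, Qsix_apply, Fin.sum_univ_six])
  obtain ⟨n, hn, h⟩ := List.any_eq_true.1 h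
  obtain ⟨i, hi⟩ := vec_of_mem hn
  rw [Bool.or_eq_true, Nat.beq_eq, Nat.beq_eq] at h
  rcases h with rfl | rfl
  · exact ⟨i, Or.inl (funext fun k => by rw [vecOf, hi, dec]; fin_cases k <;> rfl)⟩
  · refine ⟨i, Or.inr (funext fun k => ?_)⟩
    rw [Pi.neg_apply, vecOf, hi, dec]
    fin_cases k <;> simp

theorem refl_point {v : Fin 6 → ZMod 3} {g : Grp Qsix} (hv : Qsix v = 1) (hg : IsRefl v g) :
    ∃ i, g = reflOf i := by
  obtain ⟨i, rfl | rfl⟩ := exists_point hv
  · exact ⟨i, refl_unique hg (reflOf_spec i)⟩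
  · refine ⟨i, refl_unique hg ?_⟩
    have := refl_smul (reflOf_spec i) (c := (-1 : ZMod 3)) (by decide +kernel)
    rwa [neg_one_smul] at this

theorem reflOf_inj {i j : Fin 126} (h : reflOf i = reflOf j) : i = j := by
  have e1 := refl_self (reflOf_spec i)
  rw [h, CfsgLib.Fischer.refl_apply_three (reflOf_spec j), Qsix_vec, one_mul, Qsix_polar] at e1
  set s := (2 : ZMod 3) * ∑ k, vecOf j k * vecOf i k with hs
  have e2 : ∀ k, 2 * vecOf i k = s * vecOf j k := fun k => by
    have := congrFun e1 k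
    simp only [Pi.sub_apply, Pi.smul_apply, Pi.neg_apply, smul_eq_mul] at this
    linear_combination this
  have h2 := List.all_eq_true.1 (List.all_eq_true.1 vec_sep i (List.mem_range.2 i.2)) j (List.mem_range.2 j.2)
  simp only [Bool.or_eq_true, Nat.beq_eq, Bool.not_eq_true', Bool.or_eq_false_iff, decide_eq_false_iff_not] at h2
  refine Fin.ext (h2.resolve_right fun ⟨hp, hm⟩ => ?_)
  have key : ∀ x y t : ZMod 3, 2 * x = t * y → (t = 0 → x = 0) ∧ (t = 1 → x = -y) ∧ (t = 2 → x = y) := by
    decide +kernel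
  rcases (by decide +kernel : ∀ t : ZMod 3, t = 0 ∨ t = 1 ∨ t = 2) s with e | e | e
  · have := Qsix_vec i
    rw [show vecOf i = 0 from funext fun k => (key _ _ _ (e2 k)).1 e, QuadraticMap.map_zero] at this
    exact absurd this (by decide +kernel)
  · exact hm fun k => (key _ _ _ (e2 k)).2.1 e
  · exact hp fun k => (key _ _ _ (e2 k)).2.2 e

/-- the reflection group as a group with the 126 reflections -/
noncomputable def reflFamily : GenFamily ↥(reflectionSubgroup (⇑Qsix) 1) piPerm selPt where
  q i := ⟨reflOf i, reflOf_mem i⟩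
  inj i j h := reflOf_inj (congrArg Subtype.val h)
  gen := by
    refine eq_top_iff.2 fun x _ => ?_
    have h : (x : Grp Qsix) ∈ (Subgroup.closure (Set.range fun i => (⟨reflOf i, reflOf_mem i⟩ :
        ↥(reflectionSubgroup (⇑Qsix) 1)))).map (Subgroup.subtype _) := by
      rw [MonoidHom.map_closure]
      refine (Subgroup.closure_le _).2 ?_ x.2
      intro g hg
      obtain ⟨v, hv, hr⟩ := (CfsgLib.Fischer.norm_one_iff one_ne_zero g).1 hg
      obtain ⟨i, rfl⟩ := refl_point hv hr
      exact Subgroup.subset_closure ⟨_, ⟨i, rfl⟩, rfl⟩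
    obtain ⟨y, hy, e⟩ := h
    exact Subtype.ext e ▸ hy
  act a j := by
    refine Subtype.ext ?_
    show reflOf (selPt a) * reflOf j * (reflOf (selPt a))⁻¹ = reflOf (piPerm a j)
    have e := refl_conj (reflOf_spec j) (reflOf (selPt a))
    rw [CfsgLib.Fischer.refl_apply_three (reflOf_spec (selPt a)), Qsix_vec, one_mul, Qsix_polar] at e
    have hm := refl_match a j
    simp only [reflMatch, Bool.or_eq_true, decide_eq_true_eq] at hm
    set u := vecOf j - ((2 : ZMod 3) * ∑ l, vecOf (selPt a) l * vecOf j l) • vecOf (selPt a) with hu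
    have hu' : ∀ k, u k = vecOf j k + (∑ l, vecOf (selPt a) l * vecOf j l) * vecOf (selPt a) k := fun k => by
      rw [hu, Pi.sub_apply, Pi.smul_apply, smul_eq_mul]
      linear_combination (-(∑ l, vecOf (selPt a) l * vecOf j l) * vecOf (selPt a) k) * CfsgLib.Fischer.three_eq_zero
    rcases hm with hm | hm
    · rw [show u = vecOf (piPerm a j) from funext fun k => (hu' k).trans (hm k)] at e
      exact refl_unique e (reflOf_spec _)
    · rw [show u = (-1 : ZMod 3) • vecOf (piPerm a j) from
        funext fun k => (hu' k).trans ((hm k).trans (by simp))] at e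
      exact refl_unique e (refl_smul (reflOf_spec _) (by decide +kernel))
  reach j := by
    obtain ⟨σ, hσ, e⟩ := actGroup_reach j
    obtain ⟨τ, hτ, e'⟩ := actGroup_reach (selPt 0)
    exact ⟨σ * τ⁻¹, mul_mem hσ (inv_mem hτ), 0, by
      rw [Equiv.Perm.mul_apply, show τ⁻¹ (selPt 0) = 0 from Equiv.Perm.inv_eq_iff_eq.2 e'.symm, e]⟩

end CfsgLib.Fi22Three
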