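import Cfsg.Agent.Lib.Fi22Three.Model
import Cfsg.Agent.Lib.Fi22Three.Refl

/-!
The centralizer of two non-commuting transpositions.
-/

set_option autoImplicit false
set_option maxRecDepth 100000

namespace CfsgLib.Fi22Three

open Cfsg Cfsg.Spor CfsgLib.CosetEnum
open CfsgLib.Fi22Pres (gen certA setupA rho subA)
open CfsgLib.M23 (Pt tr comB actPt)

theorem rho_card : Nat.card Fi22 = 64561751654400 := Fi22Pres.card_faithful.1

/-- the elements fixing the two standard points -/
noncomputable def fixPair : Subgroup Fi22 :=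
  subA ⊓ (MulAction.stabilizer (Equiv.Perm Pt) (mkPt 14)).comap rho

theorem fixPair_card : Nat.card fixPair = 6531840 := by
  haveI : Finite Fi22 := Fi22Pres.finite_and_card.1
  letI : MulAction subA Pt := MulAction.compHom Pt (rho.comp subA.subtype)
  have hsmul : ∀ (h : subA) (x : Pt), h • x = rho (h : Fi22) x := fun _ _ => rfl
  have hcard : Nat.card subA * 3510 = 64561751654400 := by
    rw [← rho_card, ← subA.card_mul_index, setupA.index_eq]; rfl
  have h14 : Fi22Pres.subMask1.testBit (mkPt 14 : Pt) = true := by decide +kernel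
  obtain ⟨h₂, hh₂, e₂⟩ := (setupA.orbit_mem_iff Fi22Pres.subMask1_orbit _).mpr h14
  have horb : MulAction.orbit subA (mkPt 14) = {x : Pt | Fi22Pres.subMask1.testBit x = true} := by
    ext x
    rw [Set.mem_ofPred_eq, ← setupA.orbit_mem_iff Fi22Pres.subMask1_orbit]
    constructor
    · rintro ⟨⟨h, hh⟩, rfl⟩
      exact ⟨h * h₂, mul_mem hh hh₂, by rw [map_mul, Equiv.Perm.mul_apply, e₂]; rfl⟩
    · rintro ⟨h, hh, rfl⟩
      exact ⟨⟨h * h₂⁻¹, mul_mem hh (inv_mem hh₂)⟩, by
        show rho (h * h₂⁻¹) (mkPt 14) = _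
        rw [map_mul, map_inv, Equiv.Perm.mul_apply, Equiv.Perm.inv_eq_iff_eq.2 e₂.symm]⟩
  have hn : (MulAction.orbit subA (mkPt 14)).ncard = 2816 := by
    rw [horb, ← Fi22Pres.subMask1_size, popc_eq, Set.ncard_eq_toFinset_card', ← Finset.card_map Fin.valEmbedding]
    congr 1
  have h := (MulAction.stabilizer subA (mkPt 14)).card_mul_index
  rw [MulAction.index_stabilizer, hn] at h
  have e : Nat.card (MulAction.stabilizer subA (mkPt 14)) = Nat.card fixPair := Nat.card_congr {
    toFun := fun x => ⟨(x.1 : Fi22), x.1.2, x.2⟩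
    invFun := fun x => ⟨⟨x.1, x.2.1⟩, x.2.2⟩
    left_inv := fun _ => rfl
    right_inv := fun _ => rfl }
  rw [e] at h
  omega

/-- the point with an index among the 126 -/
noncomputable def pPt (i : Fin 126) : Pt := mkPt (pp i)

theorem pp_facts (i : Fin 126) :
    pp i < 3510 ∧ pp i ∈ pairPts ∧ comB 0 (pp i) = true ∧ comB 14 (pp i) = true ∧ pp i ≠ 0 ∧ pp i ≠ 14 := by
  obtain ⟨hl, -, h⟩ := pts_ok
  have hm : pp i ∈ pairPts := by
    rw [pp, nth_eq, List.getD_eq_getElem _ _ (by omega)]
    exact List.getElem_mem _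
  have h' := List.all_eq_true.1 h _ hm
  simp only [Bool.and_eq_true, Nat.blt_eq, Bool.not_eq_true', ← Bool.not_eq_true, Nat.beq_eq] at h'
  obtain ⟨⟨⟨⟨h1, h2⟩, h3⟩, h4⟩, h5⟩ := h'
  exact ⟨h1, hm, h2, h3, h4, h5⟩

theorem pPt_val (i : Fin 126) : (pPt i : ℕ) = pp i := mkPt_val (pp_facts i).1

theorem exists_pp {y : ℕ} (h : y ∈ pairPts) : ∃ i : Fin 126, pp i = y := by
  obtain ⟨j, hj, rfl⟩ := List.mem_iff_getElem.1 h
  exact ⟨⟨j, pts_ok.1 ▸ hj⟩, by rw [pp, nth_eq, List.getD_eq_getElem _ _ hj]⟩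

theorem pPt_inj {i j : Fin 126} (h : pPt i = pPt j) : i = j := by
  obtain ⟨hl, hnd, -⟩ := pts_ok
  have e : pp i = pp j := by rw [← pPt_val, ← pPt_val, h]
  rw [pp, pp, nth_eq, nth_eq, List.getD_eq_getElem _ _ (by omega), List.getD_eq_getElem _ _ (by omega)] at e
  exact Fin.ext ((hnd.getElem_inj_iff).1 e)

theorem gens_act (a : Fin 7) (j : Fin 126) : actPt (pPt (selPt a)) (pPt j) = pp (piPerm a j) := by
  have h := List.all_eq_true.1 (List.all_eq_true.1 act_ok a (List.mem_range.2 a.2)) j (List.mem_range.2 j.2)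
  simp only [Bool.and_eq_true, Nat.blt_eq, Nat.beq_eq] at h
  rw [pPt_val, pPt_val, piPerm_val]
  have e : ((selPt a : Fin 126) : ℕ) = nth pairGens a 0 := Nat.mod_eq_of_lt h.2
  rw [e]
  exact h.1.1

namespace Mdl

variable {G : Type*} [Group G] {D : Set G} (M : Mdl D)

/-- the first transposition of the pair -/
noncomputable def A : G := M.t (mkPt 0)

/-- the second transposition of the pair -/
noncomputable def B : G := M.t (mkPt 14)

/-- the group generated by the transpositions centralizing both -/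
noncomputable def pairK : Subgroup G := Subgroup.closure (Set.range fun i => M.t (pPt i))

theorem pair_nc : ¬ Commute M.A M.B := by
  rw [A, B, M.commute_iff, mkPt_val (by norm_num), mkPt_val (by norm_num), tri_ok.2]
  exact Bool.false_ne_true

theorem fix_of_commute {x y : Pt} (h : Commute (M.t x) (M.t y)) : actPt x y = y := by
  have e : mkPt (actPt x y) = y := M.t_inj (by rw [← M.conj_t, h.eq, mul_inv_cancel_right])
  rw [← M23.actPt_eq] at e ⊢
  rw [mkPt_self] at e
  rw [e]

theorem perp_iff (y : G) :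
    (y ∈ D ∧ Commute M.A y ∧ Commute M.B y ∧ y ≠ M.A ∧ y ≠ M.B) ↔ ∃ i, M.t (pPt i) = y := by
  constructor
  · rintro ⟨hy, ha, hb, -, -⟩
    obtain ⟨x, rfl⟩ := M.exists_t hy
    have e1 := M.fix_of_commute ha
    have e2 := M.fix_of_commute hb
    rw [mkPt_val (by norm_num)] at e1 e2
    have hx : xAct x = x := by rw [xAct, e2, e1]
    have h := allUp_spec fix_ok (x : ℕ) (Nat.zero_le _) (lt_trans x.2 (by norm_num [certA]))
    simp only [Bool.or_eq_true, Bool.not_eq_true', ← Bool.not_eq_true, Nat.blt_eq, Nat.beq_eq, hx,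
      not_true_eq_false, or_false] at h
    obtain ⟨i, hi⟩ := exists_pp (mem_of_inL (h.resolve_left fun h => h x.2))
    exact ⟨i, by rw [pPt, hi, mkPt_self]⟩
  · rintro ⟨i, rfl⟩
    obtain ⟨h1, -, h2, h3, h4, h5⟩ := pp_facts i
    refine ⟨M.t_mem _, ?_, ?_, fun e => h4 ?_, fun e => h5 ?_⟩
    · rw [A, M.commute_iff, mkPt_val (by norm_num), pPt_val]; exact h2
    · rw [B, M.commute_iff, mkPt_val (by norm_num), pPt_val]; exact h3
    · rw [← pPt_val, M.t_inj e, mkPt_val (by norm_num)]
    · rw [← pPt_val, M.t_inj e, mkPt_val (by norm_num)]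

theorem pairK_eq : M.pairK = Subgroup.closure {y : G | y ∈ D ∧ Commute M.A y ∧ Commute M.B y ∧ y ≠ M.A ∧ y ≠ M.B} :=
  congrArg Subgroup.closure (Set.ext fun y => (M.perp_iff y).symm)

theorem pairK_le : M.pairK ≤ Subgroup.centralizer ({M.A, M.B} : Set G) := by
  rw [pairK_eq, Subgroup.closure_le]
  rintro y ⟨-, ha, hb, -, -⟩ z (rfl | rfl)
  · exact ha.eq
  · exact hb.eq

/-- the transpositions with the action of seven of them -/
noncomputable def family : GenFamily M.pairK piPerm selPt where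
  q i := ⟨M.t (pPt i), Subgroup.subset_closure ⟨i, rfl⟩⟩
  inj _ _ h := pPt_inj (M.t_inj (congrArg Subtype.val h))
  gen := by
    refine eq_top_iff.2 fun x _ => ?_
    have h : (x : G) ∈ (Subgroup.closure (Set.range fun i => (⟨M.t (pPt i), Subgroup.subset_closure ⟨i, rfl⟩⟩ :
        M.pairK))).map (Subgroup.subtype _) := by
      rw [MonoidHom.map_closure, ← Set.range_comp]
      exact x.2
    obtain ⟨y, hy, e⟩ := h
    exact Subtype.ext e ▸ hy
  act a j := by
    refine Subtype.ext ?_
    show M.t _ * M.t _ * (M.t _)⁻¹ = M.t _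
    rw [M.conj_t, gens_act]
    rfl
  reach := reflFamily.reach

theorem cent_card : Nat.card (Subgroup.centralizer ({M.A, M.B} : Set G)) ≤ 6531840 := by
  haveI : Finite Fi22 := Fi22Pres.finite_and_card.1
  rw [← fixPair_card]
  have hfix : ∀ g ∈ Subgroup.centralizer ({M.A, M.B} : Set G), ∀ z : Pt, M.t z ∈ ({M.A, M.B} : Set G) →
      rho (M.e.symm g) z = z := fun g hg z hz => M.t_inj (by rw [← M.conj_eq, ← hg _ hz, mul_inv_cancel_right])
  refine Nat.card_le_card_of_injective (fun g => ⟨M.e.symm (g : G), ?_, ?_⟩) fun g h e =>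
    Subtype.ext (M.e.symm.injective (congrArg Subtype.val e))
  · show M.e.symm (g : G) ∈ subA
    rw [setupA.mem_iff, ← mkPt_zero]
    exact hfix _ g.2 _ (Or.inl rfl)
  · exact MulAction.mem_stabilizer_iff.2 (hfix _ g.2 _ (Or.inr rfl))

theorem pairK_card : 6531840 ≤ Nat.card M.pairK := by
  haveI : Finite Fi22 := Fi22Pres.finite_and_card.1
  haveI : Finite G := Finite.of_equiv _ M.e.toEquiv
  refine le_trans actGroup_card ?_
  rw [show actGroup = M.family.hom.range from M.family.hom_range.symm]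
  exact Nat.card_le_card_of_surjective _ M.family.hom.rangeRestrict_surjective

theorem pairK_eq_centralizer : M.pairK = Subgroup.centralizer ({M.A, M.B} : Set G) := by
  haveI : Finite Fi22 := Fi22Pres.finite_and_card.1
  haveI : Finite G := Finite.of_equiv _ M.e.toEquiv
  exact Subgroup.eq_of_le_of_card_ge M.pairK_le (M.cent_card.trans M.pairK_card)

theorem pairK_center : Subgroup.center M.pairK = ⊥ := by
  refine eq_bot_iff.2 fun z hz => Subgroup.mem_bot.2 (Subtype.ext ?_)
  have hP : ∀ i, Commute (z : G) (M.t (pPt i)) := fun i =>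
    (congrArg Subtype.val (Subgroup.mem_center_iff.1 hz ⟨_, Subgroup.subset_closure ⟨i, rfl⟩⟩) :).symm
  have hA : Commute (z : G) M.A := (M.pairK_le z.2 _ (Or.inl rfl)).symm
  have hB : Commute (z : G) M.B := (M.pairK_le z.2 _ (Or.inr rfl)).symm
  have hfix : ∀ x : Pt, Commute (z : G) (M.t x) → rho (M.e.symm z) x = x := fun x h =>
    M.t_inj (by rw [← M.conj_eq, h.eq, mul_inv_cancel_right])
  have h12 : Commute (z : G) (M.t (mkPt 12)) := by
    set y := rho (M.e.symm (z : G)) (mkPt 12) with hy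
    suffices (y : ℕ) = 12 by
      have e := M.conj_eq (z : G) (mkPt 12)
      rw [← hy, ← mkPt_self y, this, mul_inv_eq_iff_eq_mul] at e
      exact e
    have hpat : ∀ p ∈ (0 :: 14 :: pairPts), comB p y = comB p 12 := by
      intro p hp
      have hp' : p < 3510 ∧ Commute (z : G) (M.t (mkPt p)) := by
        rcases List.mem_cons.1 hp with rfl | hp
        · exact ⟨by norm_num, hA⟩
        rcases List.mem_cons.1 hp with rfl | hp
        · exact ⟨by norm_num, hB⟩
        · obtain ⟨i, rfl⟩ := exists_pp hp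
          exact ⟨(pp_facts i).1, hP i⟩
      rw [Bool.eq_iff_iff, ← mkPt_val hp'.1, ← mkPt_val (show 12 < 3510 by norm_num), ← M.commute_iff,
        ← M.commute_iff, show M.t y = z * M.t (mkPt 12) * (z : G)⁻¹ from (M.conj_eq _ _).symm,
        show M.t (mkPt p) = z * M.t (mkPt p) * (z : G)⁻¹ by rw [hp'.2.eq, mul_inv_cancel_right]]
      refine ⟨fun h => ?_, fun h => (Commute.conj_iff _).2 ?_⟩
      · have := (Commute.conj_iff _).1 h
        rwa [hp'.2.eq, mul_inv_cancel_right]
      · rwa [hp'.2.eq, mul_inv_cancel_right] at h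
    have h := allUp_spec sep_ok (y : ℕ) (Nat.zero_le _) (lt_trans y.2 (by norm_num [certA]))
    simp only [Bool.or_eq_true, Bool.not_eq_true', ← Bool.not_eq_true, Nat.blt_eq, Nat.beq_eq, List.any_eq_true,
      bne_iff_ne] at h
    rcases h with (h | h) | ⟨p, hp, h⟩
    · exact absurd y.2 h
    · exact h
    · exact absurd (hpat p hp) h
  refine M.eq_one_of_letters fun k hk => ?_
  rw [← M.letters hk]
  have h := List.all_eq_true.1 letters_ok k (List.mem_range.2 hk)
  simp only [Bool.and_eq_true, Bool.or_eq_true, Nat.ble_eq] at h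
  rcases h.2 with h2 | h2
  · interval_cases k
    · exact hA
    · exact hB
    · exact h12
  · obtain ⟨i, hi⟩ := exists_pp (mem_of_inL h2)
    have := hP i
    rwa [pPt, hi] at this

theorem pairK_proj : IsProjReflectionGroupModThree M.pairK 6 1 1 := by
  refine ⟨Qsix, Qsix_nondeg, Qsix_det, ?_⟩
  obtain ⟨e⟩ := M.family.quotient_iso reflFamily
  exact ⟨(QuotientGroup.quotientBot.symm.trans (QuotientGroup.quotientMulEquivOfEq M.pairK_center.symm)).trans e⟩

end Mdl

end CfsgLib.Fi22Three
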