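import Mathlib

/-!
Groups given by a generating family closed under conjugation: modulo the centre they are determined by
the action of a few of the generators on the family.
-/

set_option autoImplicit false

namespace CfsgLib.Fi22Three

/-- a generating family with the action of some of its members -/
structure GenFamily (K : Type*) [Group K] {n m : ℕ} (π : Fin m → Equiv.Perm (Fin n)) (sel : Fin m → Fin n) where
  /-- the family -/
  q : Fin n → K
  inj : Function.Injective q
  gen : Subgroup.closure (Set.range q) = ⊤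
  act : ∀ a j, q (sel a) * q j * (q (sel a))⁻¹ = q (π a j)
  reach : ∀ j, ∃ σ ∈ Subgroup.closure (Set.range π), ∃ a, σ (sel a) = j

namespace GenFamily

variable {K : Type*} [Group K] {n m : ℕ} {π : Fin m → Equiv.Perm (Fin n)} {sel : Fin m → Fin n}
  (F : GenFamily K π sel)

theorem lift_perm {σ : Equiv.Perm (Fin n)} (h : σ ∈ Subgroup.closure (Set.range π)) :
    ∃ g ∈ Subgroup.closure (Set.range (F.q ∘ sel)), ∀ j, g * F.q j * g⁻¹ = F.q (σ j) := by
  induction h using Subgroup.closure_induction with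
  | mem y hy =>
    obtain ⟨a, rfl⟩ := hy
    exact ⟨_, Subgroup.subset_closure ⟨a, rfl⟩, F.act a⟩
  | one => exact ⟨1, one_mem _, fun j => by simp⟩
  | mul x y _ _ hx hy =>
    obtain ⟨g, hg, eg⟩ := hx
    obtain ⟨h, hh, eh⟩ := hy
    refine ⟨g * h, mul_mem hg hh, fun j => ?_⟩
    rw [Equiv.Perm.mul_apply, ← eg, ← eh]
    group
  | inv x _ hx =>
    obtain ⟨g, hg, eg⟩ := hx
    refine ⟨g⁻¹, inv_mem hg, fun j => ?_⟩
    conv_lhs => rw [show F.q j = F.q (x (x⁻¹ j)) by simp, ← eg]
    group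

theorem gen_sel : Subgroup.closure (Set.range (F.q ∘ sel)) = ⊤ := by
  rw [eq_top_iff, ← F.gen, Subgroup.closure_le]
  rintro - ⟨j, rfl⟩
  obtain ⟨σ, hσ, a, rfl⟩ := F.reach j
  obtain ⟨g, hg, eg⟩ := F.lift_perm hσ
  rw [← eg]
  exact mul_mem (mul_mem hg (Subgroup.subset_closure ⟨a, rfl⟩)) (inv_mem hg)

theorem exists_perm (g : K) :
    ∃ σ ∈ Subgroup.closure (Set.range π), ∀ j, g * F.q j * g⁻¹ = F.q (σ j) := by
  have h : g ∈ Subgroup.closure (Set.range (F.q ∘ sel)) := F.gen_sel ▸ Subgroup.mem_top g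
  induction h using Subgroup.closure_induction with
  | mem y hy =>
    obtain ⟨a, rfl⟩ := hy
    exact ⟨π a, Subgroup.subset_closure ⟨a, rfl⟩, F.act a⟩
  | one => exact ⟨1, one_mem _, fun j => by simp⟩
  | mul x y _ _ hx hy =>
    obtain ⟨σ, hσ, es⟩ := hx
    obtain ⟨τ, hτ, et⟩ := hy
    refine ⟨σ * τ, mul_mem hσ hτ, fun j => ?_⟩
    rw [Equiv.Perm.mul_apply, ← es, ← et]
    group
  | inv x _ hx =>
    obtain ⟨σ, hσ, es⟩ := hx
    refine ⟨σ⁻¹, inv_mem hσ, fun j => ?_⟩
    conv_lhs => rw [show F.q j = F.q (σ (σ⁻¹ j)) by simp, ← es]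
    group

/-- the action on the family -/
noncomputable def hom : K →* Equiv.Perm (Fin n) :=
  MonoidHom.mk' (fun g => (F.exists_perm g).choose) fun x y => Equiv.ext fun j => F.inj (by
    rw [← (F.exists_perm (x * y)).choose_spec.2, Equiv.Perm.mul_apply, ← (F.exists_perm x).choose_spec.2,
      ← (F.exists_perm y).choose_spec.2]
    group)

theorem hom_spec (g : K) (j : Fin n) : g * F.q j * g⁻¹ = F.q (F.hom g j) :=
  (F.exists_perm g).choose_spec.2 j

theorem hom_range : F.hom.range = Subgroup.closure (Set.range π) := by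
  refine le_antisymm ?_ ((Subgroup.closure_le _).2 ?_)
  · rintro - ⟨g, rfl⟩
    exact (F.exists_perm g).choose_spec.1
  · rintro - ⟨a, rfl⟩
    exact ⟨F.q (sel a), Equiv.ext fun j => F.inj ((F.hom_spec _ j).symm.trans (F.act a j))⟩

theorem hom_ker : F.hom.ker = Subgroup.center K := by
  ext g
  rw [MonoidHom.mem_ker, Subgroup.mem_center_iff]
  refine ⟨fun h x => ?_, fun h => Equiv.ext fun j => F.inj ?_⟩
  · have hx : x ∈ Subgroup.closure (Set.range F.q) := F.gen ▸ Subgroup.mem_top x
    refine Subgroup.mem_centralizer_singleton_iff.1 ((Subgroup.closure_le _).2 ?_ hx)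
    rintro - ⟨j, rfl⟩
    have e := F.hom_spec g j
    rw [h, Equiv.Perm.one_apply, mul_inv_eq_iff_eq_mul] at e
    exact Subgroup.mem_centralizer_singleton_iff.2 e.symm
  · rw [← F.hom_spec g j, ← h, mul_inv_cancel_right, Equiv.Perm.one_apply]

include F in
/-- two groups with such families are isomorphic modulo centres -/
theorem quotient_iso {K' : Type*} [Group K'] (F' : GenFamily K' π sel) :
    Nonempty (K ⧸ Subgroup.center K ≃* K' ⧸ Subgroup.center K') :=
  ⟨(QuotientGroup.quotientMulEquivOfEq F.hom_ker.symm).trans <|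
    (QuotientGroup.quotientKerEquivRange F.hom).trans <|
    (MulEquiv.subgroupCongr (F.hom_range.trans F'.hom_range.symm)).trans <|
    (QuotientGroup.quotientKerEquivRange F'.hom).symm.trans
      (QuotientGroup.quotientMulEquivOfEq F'.hom_ker)⟩

end GenFamily

/-- orbit and stabiliser: a lower bound for the order -/
theorem card_mul_le {n : ℕ} (H : Subgroup (Equiv.Perm (Fin n))) (b : Fin n) (O : Finset (Fin n))
    (hO : ∀ y ∈ O, ∃ h ∈ H, h b = y) :
    O.card * Nat.card ↥(H ⊓ MulAction.stabilizer (Equiv.Perm (Fin n)) b) ≤ Nat.card H := by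
  rw [← (MulAction.stabilizer H b).card_mul_index, mul_comm, MulAction.index_stabilizer]
  refine Nat.mul_le_mul (le_of_eq (Nat.card_congr ?_)) ?_
  · exact {
      toFun := fun x => ⟨⟨x.1, x.2.1⟩, x.2.2⟩
      invFun := fun x => ⟨x.1.1, x.1.2, x.2⟩
      left_inv := fun _ => rfl
      right_inv := fun _ => rfl }
  · rw [← Set.ncard_coe_finset]
    refine Set.ncard_le_ncard (fun y hy => ?_) (Set.toFinite _)
    obtain ⟨h, hh, rfl⟩ := hO y hy
    exact ⟨⟨h, hh⟩, rfl⟩

end CfsgLib.Fi22Three
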