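import Cfsg.Agent.Lib.Fi22Three.PairChecks
import Cfsg.Agent.Lib.Fi22Three.GenTable

/-!
The group generated by the action of seven transpositions on the 126 points.
-/

set_option autoImplicit false
set_option maxRecDepth 100000

namespace CfsgLib.Fi22Three

open CfsgLib.CosetEnum

theorem pAct_invol : (List.range 7).all (fun k => (List.range 126).all fun i =>
    Nat.blt (pAct k i) 126 && Nat.beq (pAct k (pAct k i)) i) = true := by decide +kernel

theorem pAct_lt {k i : ℕ} (hk : k < 7) (hi : i < 126) : pAct k i < 126 ∧ pAct k (pAct k i) = i := by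
  have h := List.all_eq_true.1 (List.all_eq_true.1 pAct_invol k (List.mem_range.2 hk)) i (List.mem_range.2 hi)
  simpa [Nat.blt_eq, Nat.beq_eq] using h

/-- the involution of a generator -/
noncomputable def piPerm (k : Fin 7) : Equiv.Perm (Fin 126) :=
  Function.Involutive.toPerm (fun i => ⟨pAct k i, (pAct_lt k.2 i.2).1⟩) fun i => Fin.ext (pAct_lt k.2 i.2).2

theorem piPerm_val (k : Fin 7) (i : Fin 126) : (piPerm k i : ℕ) = pAct k i := rfl

/-- the group they generate -/
noncomputable def actGroup : Subgroup (Equiv.Perm (Fin 126)) := Subgroup.closure (Set.range piPerm)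

theorem exists_word {w : List ℕ} (hw : ∀ k ∈ w, k < 7) :
    ∃ σ ∈ actGroup, ∀ i : Fin 126, (σ i : ℕ) = wAct w i := by
  induction w with
  | nil => exact ⟨1, one_mem _, fun i => rfl⟩
  | cons k w ih =>
    obtain ⟨σ, hσ, e⟩ := ih fun l hl => hw l (List.mem_cons_of_mem _ hl)
    refine ⟨piPerm ⟨k, hw k List.mem_cons_self⟩ * σ, mul_mem (Subgroup.subset_closure ⟨_, rfl⟩) hσ, fun i => ?_⟩
    rw [Equiv.Perm.mul_apply, piPerm_val, e]
    rfl

theorem mem_of_inL {y : ℕ} {l : List ℕ} (h : inL y l = true) : y ∈ l := by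
  obtain ⟨x, hx, e⟩ := List.any_eq_true.1 h
  rw [Nat.beq_eq] at e
  exact e ▸ hx

/-- the points seen by a level of the chain -/
def levelPts (seen : List ℕ) : List (ℕ × ℕ × ℕ) → List ℕ
  | [] => seen
  | (z, _, _) :: rest => levelPts (z :: seen) rest

theorem levelPts_length (seen : List ℕ) (t : List (ℕ × ℕ × ℕ)) :
    (levelPts seen t).length = t.length + seen.length := by
  induction t generalizing seen with
  | nil => simp [levelPts]
  | cons a t ih => obtain ⟨z, j, y⟩ := a; rw [levelPts, ih]; simp; omega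

theorem level_spec {H : Subgroup (Equiv.Perm (Fin 126))} {ws : List (List ℕ)}
    (hws : ∀ w ∈ ws, ∃ σ ∈ H, ∀ i : Fin 126, (σ i : ℕ) = wAct w i) (b : Fin 126) :
    ∀ (t : List (ℕ × ℕ × ℕ)) (seen : List ℕ), levelTreeOK ws seen t = true →
      (∀ y ∈ seen, y < 126 → ∃ h ∈ H, (h b : ℕ) = y) →
      (levelPts seen t).Nodup ∧ ∀ y ∈ levelPts seen t, y < 126 ∧ ∃ h ∈ H, (h b : ℕ) = y
  | [], seen, ht, hs => by
    simp only [levelTreeOK, Bool.and_eq_true, decide_eq_true_eq, List.all_eq_true, Nat.blt_eq] at ht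
    exact ⟨ht.1, fun y hy => ⟨ht.2 y hy, hs y hy (ht.2 y hy)⟩⟩
  | (z, j, y) :: rest, seen, ht, hs => by
    simp only [levelTreeOK, Bool.and_eq_true, Nat.blt_eq, Nat.beq_eq] at ht
    obtain ⟨⟨⟨hy, hj⟩, hz⟩, hr⟩ := ht
    refine level_spec hws b rest (z :: seen) hr fun x hx hxlt => ?_
    rcases List.mem_cons.1 hx with rfl | hx'
    · by_cases hy' : y < 126
      · obtain ⟨h, hh, e⟩ := hs y (mem_of_inL hy) hy'
        have hw : ws.getD j [] ∈ ws := by
          rw [List.getD_eq_getElem _ _ hj]; exact List.getElem_mem hj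
        obtain ⟨σ, hσ, eσ⟩ := hws _ hw
        exact ⟨σ * h, mul_mem hσ hh, by rw [Equiv.Perm.mul_apply, eσ, e, hz]⟩
      · exfalso
        have hall : ∀ (t : List (ℕ × ℕ × ℕ)) (seen : List ℕ), levelTreeOK ws seen t = true →
            ∀ u ∈ seen, u < 126 := by
          intro t
          induction t with
          | nil =>
            intro seen h u hu
            simp only [levelTreeOK, Bool.and_eq_true, List.all_eq_true, Nat.blt_eq] at h
            exact h.2 u hu
          | cons a t ih =>
            obtain ⟨z', j', y'⟩ := a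
            intro seen h u hu
            simp only [levelTreeOK, Bool.and_eq_true] at h
            exact ih _ h.2 u (List.mem_cons_of_mem _ hu)
        exact hy' (hall rest (x :: seen) hr y (List.mem_cons_of_mem _ (mem_of_inL hy)))
    · exact hs x hx' hxlt

/-- the base points -/
noncomputable def basePt (i : ℕ) : Fin 126 := ⟨nth pairBase i 0 % 126, Nat.mod_lt _ (by norm_num)⟩

/-- the elements fixing the first base points -/
noncomputable def fixFirst : ℕ → Subgroup (Equiv.Perm (Fin 126))
  | 0 => actGroup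
  | i + 1 => fixFirst i ⊓ MulAction.stabilizer (Equiv.Perm (Fin 126)) (basePt i)

theorem mem_fixFirst {i : ℕ} {σ : Equiv.Perm (Fin 126)} (h : σ ∈ actGroup) (hf : ∀ j < i, σ (basePt j) = basePt j) :
    σ ∈ fixFirst i := by
  induction i with
  | zero => exact h
  | succ i ih => exact ⟨ih fun j hj => hf j (by omega), hf i (by omega)⟩

theorem level_at {i : ℕ} (hi : i < 5) :
    ((pairTrees.getD i []).length + 1) * Nat.card (fixFirst (i + 1)) ≤ Nat.card (fixFirst i) ∧
      ∀ y ∈ levelPts [nth pairBase i 0] (pairTrees.getD i []), y < 126 ∧ ∃ h ∈ fixFirst i, (h (basePt i) : ℕ) = y := by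
  have h := List.all_eq_true.1 chain_ok i (List.mem_range.2 hi)
  simp only [Bool.and_eq_true, Nat.blt_eq] at h
  obtain ⟨⟨hfix, htree⟩, hlt⟩ := h
  have hb : ∀ j < 5, nth pairBase j 0 < 126 := fun j hj => by
    have h := List.all_eq_true.1 chain_ok j (List.mem_range.2 hj)
    simp only [Bool.and_eq_true, Nat.blt_eq] at h
    exact h.2
  have hbase : ∀ j < 5, (basePt j : ℕ) = nth pairBase j 0 := fun j hj => Nat.mod_eq_of_lt (hb j hj)
  have hws : ∀ w ∈ pairWords.getD i [], ∃ σ ∈ fixFirst i, ∀ x : Fin 126, (σ x : ℕ) = wAct w x := by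
    intro w hw
    have h := List.all_eq_true.1 hfix w hw
    simp only [Bool.and_eq_true, List.all_eq_true, Nat.blt_eq, Nat.beq_eq] at h
    obtain ⟨σ, hσ, e⟩ := exists_word h.1
    refine ⟨σ, mem_fixFirst hσ fun j hj => Fin.ext ?_, e⟩
    rw [e, hbase j (by omega)]
    refine h.2 _ ?_
    have hlen : pairBase.length = 5 := by decide +kernel
    rw [nth_eq, List.getD_eq_getElem _ _ (by omega)]
    exact List.mem_take_iff_getElem.2 ⟨j, by omega, by simp⟩
  obtain ⟨hnd, hmem⟩ := level_spec hws (basePt i) _ _ htree fun y hy _ =>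
    ⟨1, one_mem _, by rw [List.mem_singleton.1 hy, Equiv.Perm.one_apply, hbase i hi]⟩
  refine ⟨?_, hmem⟩
  let L := levelPts [nth pairBase i 0] (pairTrees.getD i [])
  have hO := card_mul_le (fixFirst i) (basePt i) ((Finset.univ : Finset (Fin 126)).filter fun y => (y : ℕ) ∈ L)
    fun y hy => by
      obtain ⟨-, g, hg, e⟩ := hmem y (Finset.mem_filter.1 hy).2
      exact ⟨g, hg, Fin.ext e⟩
  refine le_trans (Nat.mul_le_mul_right _ (le_of_eq ?_)) hO
  rw [show (pairTrees.getD i []).length + 1 = L.length from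
      (levelPts_length [nth pairBase i 0] (pairTrees.getD i [])).symm,
    ← List.toFinset_card_of_nodup hnd]
  refine (Finset.card_nbij' (fun y : Fin 126 => (y : ℕ)) (fun y => ⟨y % 126, Nat.mod_lt _ (by norm_num)⟩)
    ?_ ?_ ?_ ?_).symm
  · intro y hy; simpa [L] using hy
  · intro y hy
    have hy' : y ∈ L := List.mem_toFinset.1 hy
    simpa [Nat.mod_eq_of_lt (hmem y hy').1] using hy'
  · intro y _; exact Fin.ext (Nat.mod_eq_of_lt y.2)
  · intro y hy
    exact Nat.mod_eq_of_lt (hmem y (List.mem_toFinset.1 hy)).1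

theorem actGroup_card : 6531840 ≤ Nat.card actGroup := by
  obtain ⟨hp, hl⟩ := chain_size
  have h : ∀ i, i ≤ 5 → ((pairTrees.map fun t => t.length + 1).take i).prod * Nat.card (fixFirst i) ≤
      Nat.card actGroup := by
    intro i hi
    induction i with
    | zero => simp [fixFirst]
    | succ i ih =>
      refine le_trans ?_ (ih (by omega))
      rw [List.prod_take_succ _ _ (by simpa [hl] using (show i < 5 by omega)), mul_assoc]
      refine Nat.mul_le_mul_left _ ?_
      rw [List.getElem_map, ← List.getD_eq_getElem _ []]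
      exact (level_at (show i < 5 by omega)).1
  have h5 := h 5 le_rfl
  rw [List.take_of_length_le (by simp [hl]), hp] at h5
  exact le_trans (Nat.le_mul_of_pos_right _ Nat.card_pos) h5

/-- every point is moved to from the first one -/
theorem actGroup_reach (j : Fin 126) : ∃ σ ∈ actGroup, (σ 0 : Fin 126) = j := by
  obtain ⟨-, hmem⟩ := level_at (show 0 < 5 by norm_num)
  have hl := levelPts_length [nth pairBase 0 0] (pairTrees.getD 0 [])
  have hall : ∀ y < 126, inL y (levelPts [nth pairBase 0 0] (pairTrees.getD 0 [])) = true := by decide +kernel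
  obtain ⟨-, g, hg, e⟩ := hmem j (mem_of_inL (hall j j.2))
  have hb : basePt 0 = 0 := Fin.ext (by decide +kernel)
  exact ⟨g, hg, by rw [← hb]; exact Fin.ext e⟩

end CfsgLib.Fi22Three
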