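import Cfsg.Agent.Lib.Fi22Three.PairChecks
import Cfsg.Agent.Lib.TypeM22.Main
import Cfsg.Agent.Lib.TypeM22.Facts
import Cfsg.Agent.Lib.ThreeTransp.Main

/-!
A group with a class which is Fi22 with its transpositions, described on the 3510 points.
-/

set_option autoImplicit false
set_option maxRecDepth 100000

namespace CfsgLib.Fi22Three

open Cfsg Cfsg.Spor CfsgLib.CosetEnum
open CfsgLib.Fi22Pres (gen certA setupA rho)
open CfsgLib.M23 (Pt tr comB actPt)
open CfsgLib.Fi22USix (transClass)

/-- the point with a number -/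
def mkPt (n : ℕ) : Pt := ⟨n % 3510, Nat.mod_lt _ (by norm_num)⟩

theorem mkPt_val {n : ℕ} (h : n < 3510) : ((mkPt n : Pt) : ℕ) = n := Nat.mod_eq_of_lt h

theorem mkPt_self (x : Pt) : mkPt x = x := Fin.ext (mkPt_val x.2)

theorem mkPt_inj {a b : ℕ} (ha : a < 3510) (hb : b < 3510) (h : mkPt a = mkPt b) : a = b := by
  rw [← mkPt_val ha, ← mkPt_val hb, h]

theorem mkPt_zero : mkPt 0 = setupA.base := Fin.ext rfl

theorem tr_letter {k : ℕ} (hk : k < 9) : tr (mkPt (nth letterPts k 0)) = gen k := by
  have h := List.all_eq_true.1 letters_ok k (List.mem_range.2 hk)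
  simp only [Bool.and_eq_true, Nat.blt_eq] at h
  obtain ⟨⟨hs, hlt⟩, -⟩ := h
  rw [tr, mkPt_val hlt, Fi22Pres.conj_eq hlt]
  haveI : Finite Fi22 := Fi22Pres.finite_and_card.1
  have := setupA.eq_of_bases Fi22Pres.chain_ok
    (Fi22Pres.chain_size.trans Fi22Pres.card_faithful.1.symm) (u := [k]) (by simpa using (show k < certA.K from hk))
    (Fi22Pres.conj_letters hlt) hs
  rw [← this, prodW_cons, prodW_nil, mul_one]

variable {G : Type*} [Group G]

/-- a group which is Fi22 with its class of transpositions -/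
structure Mdl (D : Set G) where
  /-- the isomorphism -/
  e : Fi22 ≃* G
  he : e '' transClass = D

namespace Mdl

variable {D : Set G} (M : Mdl D)

/-- the transposition of a point -/
noncomputable def t (x : Pt) : G := M.e (tr x)

theorem t_mem (x : Pt) : M.t x ∈ D :=
  (Set.ext_iff.1 M.he (M.t x)).1 ⟨_, M23.tr_mem x, rfl⟩

theorem exists_t {y : G} (hy : y ∈ D) : ∃ x : Pt, M.t x = y := by
  rw [← M.he] at hy
  obtain ⟨u, hu, rfl⟩ := hy
  obtain ⟨x, rfl⟩ := M23.exists_tr hu
  exact ⟨x, rfl⟩

theorem t_inj {x y : Pt} (h : M.t x = M.t y) : x = y := M23.tr_inj (M.e.injective h)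

theorem commute_iff (x y : Pt) : Commute (M.t x) (M.t y) ↔ comB x y = true := by
  rw [M23.comB_iff]
  refine ⟨fun h => ?_, fun h => h.map M.e⟩
  have h' := h.map M.e.symm
  rwa [t, t, M.e.symm_apply_apply, M.e.symm_apply_apply] at h'

theorem conj_eq (g : G) (x : Pt) : g * M.t x * g⁻¹ = M.t (rho (M.e.symm g) x) := by
  rw [t, t, ← M23.tr_smul, map_mul, map_mul, map_inv, M.e.apply_symm_apply]

theorem conj_t (z y : Pt) : M.t z * M.t y * (M.t z)⁻¹ = M.t (mkPt (actPt z y)) := by
  rw [M.conj_eq, show M.e.symm (M.t z) = tr z from M.e.symm_apply_apply _]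
  exact congrArg M.t (((congrArg mkPt (M23.actPt_eq z y)).symm.trans (mkPt_self _)).symm)

theorem sq (x : Pt) : M.t x * M.t x = 1 := by
  rw [t, ← map_mul, show tr x * tr x = 1 from ?_, map_one]
  rw [tr, conjAt]
  calc _ = (coreRep certA gen x)⁻¹ * (gen 0 * gen 0) * coreRep certA gen x := by group
    _ = 1 := by rw [Fi22Pres.first_facts.1, mul_one, inv_mul_cancel]

theorem inv_t (x : Pt) : (M.t x)⁻¹ = M.t x := inv_eq_of_mul_eq_one_right (M.sq x)

theorem letters {k : ℕ} (hk : k < 9) : M.t (mkPt (nth letterPts k 0)) = M.e (gen k) := by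
  rw [t, tr_letter hk]

include M in
/-- the transpositions of the letters generate -/
theorem eq_one_of_letters {z : G} (h : ∀ k < 9, Commute z (M.e (gen k))) : z = 1 := by
  haveI : Finite Fi22 := Fi22Pres.finite_and_card.1
  haveI : IsSimpleGroup Fi22 := Fi22Pres.isFi22.1
  have hc : M.e.symm z ∈ Subgroup.center Fi22 := by
    refine Subgroup.mem_center_iff.2 fun g => ?_
    have hg : g ∈ Subgroup.closure {y | ∃ k < certA.K, gen k = y} := setupA.gen_top.symm ▸ Subgroup.mem_top g
    induction hg using Subgroup.closure_induction with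
    | mem y hy =>
      obtain ⟨k, hk, rfl⟩ := hy
      have := (h k hk).map M.e.symm
      rw [M.e.symm_apply_apply] at this
      exact this.symm
    | one => simp
    | mul a b _ _ ha hb => exact (show Commute (a * b) _ from (show Commute a _ from ha).mul_left hb)
    | inv a _ ha => exact (show Commute a⁻¹ _ from (show Commute a _ from ha).inv_left)
  rcases Subgroup.Normal.eq_bot_or_eq_top (inferInstance : (Subgroup.center Fi22).Normal) with e | e
  · rw [e, Subgroup.mem_bot, MulEquiv.map_eq_one_iff] at hc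
    exact hc
  · exfalso
    have h2 : Commute (gen 2) (gen 3) := (Subgroup.mem_center_iff.1 (e ▸ Subgroup.mem_top (gen 2) :
      gen 2 ∈ Subgroup.center Fi22) (gen 3)).symm
    have := (TypeM22.gen_commute (k := 2) (l := 3) (by norm_num) (by norm_num) (by norm_num)).1 h2
    revert this; decide +kernel

/-- the same class seen through a conjugation -/
noncomputable def twist (c : Fi22) : Mdl D where
  e := (MulAut.conj c).trans M.e
  he := by
    rw [show ((MulAut.conj c).trans M.e : Fi22 ≃* G) '' transClass = M.e '' ((MulAut.conj c) '' transClass) from by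
      rw [Set.image_image]; rfl]
    rw [show (MulAut.conj c) '' transClass = transClass from ?_, M.he]
    ext y
    constructor
    · rintro ⟨x, hx, rfl⟩; exact TypeM22.class22_conj c hx
    · intro hy
      exact ⟨c⁻¹ * y * c⁻¹⁻¹, TypeM22.class22_conj c⁻¹ hy, by simp [mul_assoc]⟩

theorem twist_t (c : Fi22) (x : Pt) : (M.twist c).t x = M.t (rho c x) := by
  show M.e (c * tr x * c⁻¹) = _
  rw [M23.tr_smul]; rfl

include M in
/-- a non-commuting pair can be taken standard -/
theorem exists_pair {a d : G} (ha : a ∈ D) (hd : d ∈ D) (hnc : ¬ Commute a d) :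
    ∃ c : Fi22, (M.twist c).t (mkPt 0) = a ∧ (M.twist c).t (mkPt 14) = d := by
  obtain ⟨x, rfl⟩ := M.exists_t ha
  obtain ⟨y, rfl⟩ := M.exists_t hd
  obtain ⟨g, hg⟩ := M23.to_base x
  have hnc' : ¬ Commute (gen 0) (tr (rho g y)) := by
    intro h
    refine hnc ?_
    have h' := (h.map (MulAut.conj g⁻¹)).map M.e
    rw [MulAut.conj_apply, MulAut.conj_apply, M23.tr_smul, ← show tr setupA.base = gen 0 from setupA.conjAt_base _,
      M23.tr_smul, ← hg] at h'
    simpa [t, ← Equiv.Perm.mul_apply, ← map_mul] using h'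
  have hmask : ∀ z : Pt, ¬ Commute (gen 0) (tr z) → Fi22Pres.subMask1.testBit z = true := by
    intro z hz
    have hcov := Fi22Pres.suborbits.cover z z.2
    have h' := fun e => hz ((Fi22Pres.graph.mask z).mp e)
    rw [maskCover, Nat.beq_eq] at hcov
    obtain ⟨i, hi, hb⟩ := List.countP_pos_iff.1 (lt_of_lt_of_eq Nat.one_pos hcov.symm)
    rw [Fi22Pres.commMask, Nat.testBit_or, Bool.or_eq_true] at h'
    simp only [List.mem_range, List.length_cons, List.length_nil] at hi
    interval_cases i
    · exact absurd (Or.inl hb) h'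
    · exact absurd (Or.inr hb) h'
    · exact hb
  have h14 : Fi22Pres.subMask1.testBit (mkPt 14 : Pt) = true := by decide +kernel
  obtain ⟨h₁, hh₁, e₁⟩ := (setupA.orbit_mem_iff Fi22Pres.subMask1_orbit _).mpr (hmask _ hnc')
  obtain ⟨h₂, hh₂, e₂⟩ := (setupA.orbit_mem_iff Fi22Pres.subMask1_orbit _).mpr h14
  -- carry the standard pair to the given one
  refine ⟨g⁻¹ * (h₁ * h₂⁻¹), ?_, ?_⟩
  · rw [twist_t, mkPt_zero, map_mul, map_mul, map_inv, map_inv, Equiv.Perm.mul_apply, Equiv.Perm.mul_apply]
    have hfix : ∀ h ∈ Fi22Pres.subA, rho h setupA.base = setupA.base := fun h hh => by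
      refine M23.tr_inj ?_
      rw [← M23.tr_smul, show tr setupA.base = gen 0 from setupA.conjAt_base _, Fi22Pres.comm_first h hh,
        mul_inv_cancel_right]
    rw [show (rho h₂)⁻¹ setupA.base = setupA.base from Equiv.Perm.inv_eq_iff_eq.2 (hfix _ hh₂).symm, hfix _ hh₁,
      show (rho g)⁻¹ setupA.base = x from Equiv.Perm.inv_eq_iff_eq.2 hg.symm]
  · rw [twist_t, map_mul, map_mul, map_inv, map_inv, Equiv.Perm.mul_apply, Equiv.Perm.mul_apply,
      show (rho h₂)⁻¹ (mkPt 14) = _ from Equiv.Perm.inv_eq_iff_eq.2 e₂.symm, e₁,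
      show (rho g)⁻¹ (rho g y) = y from (rho g).symm_apply_apply y]

end Mdl

theorem exists_mdl [Finite G] {D : Set G} (hD : IsThreeTranspositionGroup D) (hprim : IsPrimitiveUnderConj D)
    (h22 : IsOfTypeM22 G D) : Nonempty (Mdl D) := by
  obtain ⟨e, he⟩ := TypeM22.recognition hD hprim h22
  exact ⟨⟨e, he⟩⟩

end CfsgLib.Fi22Three
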