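import Cfsg.Agent.Lib.M23.Graph
import Cfsg.Agent.Lib.CosetEnum.OutThree
import Cfsg.Agent.Lib.Fi22Three.PairData

/-!
Checks on the centralizer of two non-commuting transpositions of Fi22.
-/

set_option autoImplicit false
set_option Elab.async false
set_option maxRecDepth 100000
set_option maxHeartbeats 4000000

namespace CfsgLib.Fi22Three

open CfsgLib.CosetEnum CfsgLib.Fi22Pres
open CfsgLib.M23 (comB actPt)

/-- the `i`-th point -/
noncomputable def pp (i : ℕ) : ℕ := nth pairPts i 0

/-- the action of a generator -/
noncomputable def pAct (k i : ℕ) : ℕ := nth (pairActs.getD k []) i 0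

/-- the action of a word, the last letter first -/
noncomputable def wAct : List ℕ → ℕ → ℕ
  | [], i => i
  | k :: w, i => pAct k (wAct w i)

/-- a member of a list -/
noncomputable def inL (y : ℕ) (l : List ℕ) : Bool := l.any (Nat.beq y)

/-- the image of the first two transpositions' product on a point -/
noncomputable def xAct (y : ℕ) : ℕ := actPt 0 (actPt 14 y)

/-- not inverting -/
noncomputable def notInv (y : ℕ) : Bool :=
  [0, 2, 3, 4, 12, 34].any fun i => !(Nat.beq (actPt y (xAct (actPt y i))) (actPt 14 (actPt 0 i)))

/-- one level of the chain -/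
noncomputable def levelTreeOK (ws : List (List ℕ)) : List ℕ → List (ℕ × ℕ × ℕ) → Bool
  | seen, [] => decide seen.Nodup && seen.all (fun y => Nat.blt y 126)
  | seen, (z, j, y) :: rest =>
    inL y seen && Nat.blt j ws.length && Nat.beq (wAct (ws.getD j []) y) z && levelTreeOK ws (z :: seen) rest

/-- the words of a level fix the earlier base points -/
noncomputable def levelFixOK (i : ℕ) : Bool :=
  (pairWords.getD i []).all fun w => w.all (fun k => Nat.blt k 7) &&
    (pairBase.take i).all fun b => Nat.beq (wAct w b) b

/-- closed under the generators from the first point -/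
noncomputable def orbitAllOK : Bool :=
  levelTreeOK (pairWords.getD 0 []) [0] (pairTrees.getD 0 []) && Nat.beq (pairTrees.getD 0 []).length 125

theorem pts_ok : pairPts.length = 126 ∧ pairPts.Nodup ∧ (pairPts.all fun y =>
    Nat.blt y 3510 && comB 0 y && comB 14 y && !(Nat.beq y 0) && !(Nat.beq y 14)) = true := by decide +kernel

theorem fix_ok : allUp (fun y => !(Nat.blt y 3510) || !(Nat.beq (xAct y) y) || inL y pairPts) 12 0 = true := by
  decide +kernel

private theorem up_four {f : ℕ → Bool} (h0 : allUp f 10 0 = true) (h1 : allUp f 10 1024 = true)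
    (h2 : allUp f 10 2048 = true) (h3 : allUp f 10 3072 = true) : allUp f 12 0 = true := by
  change band (band (allUp f 10 0) (allUp f 10 1024)) (band (allUp f 10 2048) (allUp f 10 3072)) = true
  rw [h0, h1, h2, h3]
  rfl

theorem inv_ok_0 : allUp (fun y => !(Nat.blt y 3510) || inL y [0, 14, 1] || notInv y) 10 0 = true := by
  decide +kernel

theorem inv_ok_1 : allUp (fun y => !(Nat.blt y 3510) || inL y [0, 14, 1] || notInv y) 10 1024 = true := by
  decide +kernel

theorem inv_ok_2 : allUp (fun y => !(Nat.blt y 3510) || inL y [0, 14, 1] || notInv y) 10 2048 = true := by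
  decide +kernel

theorem inv_ok_3 : allUp (fun y => !(Nat.blt y 3510) || inL y [0, 14, 1] || notInv y) 10 3072 = true := by
  decide +kernel

theorem inv_ok : allUp (fun y => !(Nat.blt y 3510) || inL y [0, 14, 1] || notInv y) 12 0 = true :=
  up_four inv_ok_0 inv_ok_1 inv_ok_2 inv_ok_3

theorem tri_ok : (actPt 0 0, actPt 0 14, actPt 0 1, actPt 14 0, actPt 14 14, actPt 14 1) = (0, 1, 14, 1, 14, 0) ∧
    comB 0 14 = false := by decide +kernel

theorem act_ok : (List.range 7).all (fun k => (List.range 126).all fun i =>
    Nat.beq (actPt (pp (nth pairGens k 0)) (pp i)) (pp (pAct k i)) && Nat.blt (pAct k i) 126 &&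
      Nat.blt (nth pairGens k 0) 126) = true := by decide +kernel

theorem chain_ok : (List.range 5).all (fun i => levelFixOK i &&
    levelTreeOK (pairWords.getD i []) [nth pairBase i 0] (pairTrees.getD i []) && Nat.blt (nth pairBase i 0) 126) = true := by
  decide +kernel

theorem chain_size : ((pairTrees.map fun t => t.length + 1).prod = 6531840) ∧ pairTrees.length = 5 := by
  decide +kernel

theorem orbit_all : orbitAllOK = true ∧ (pairWords.getD 0 []).all (fun w => w.all fun k => Nat.blt k 7) = true := by
  decide +kernel

theorem sep_ok : allUp (fun y => !(Nat.blt y 3510) || Nat.beq y 12 ||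
    (0 :: 14 :: pairPts).any fun p => comB p y != comB p 12) 12 0 = true := by decide +kernel

/-- the points of the letters -/
def letterPts : List ℕ := [0, 14, 12, 10, 59, 110, 173, 34, 86]

theorem letters_ok : (List.range 9).all (fun k => sameBases certA levels [k] (certA.conjWord 0 (nth letterPts k 0))
    && Nat.blt (nth letterPts k 0) 3510 && (Nat.ble k 2 || inL (nth letterPts k 0) pairPts)) = true := by
  decide +kernel

end CfsgLib.Fi22Three
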